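import Groth.Agent.OpenSS.Fibre

/-!
# Products with an embedded variety are very ample over the parameter space
-/

set_option autoImplicit false
set_option linter.style.haveILetI false
set_option linter.unusedSectionVars false
set_option backward.isDefEq.respectTransparency false
set_option backward.isDefEq.respectTransparency.types false
set_option maxHeartbeats 1000000

universe u

open CategoryTheory CategoryTheory.Limits AlgebraicGeometry TopologicalSpace Opposite

noncomputable section

namespace Groth.Agent.OpenSS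

open Groth.Agent Groth.Agent.H28 Groth.Agent.Quot15

theorem isNoetherian_of_finiteType (k : Type u) [Field k] {S : Scheme.{u}} (q : S ⟶ Spec (CommRingCat.of k))
    [LocallyOfFiniteType q] [CompactSpace S] : IsNoetherian S := by
  haveI : IsLocallyNoetherian S := LocallyOfFiniteType.isLocallyNoetherian q
  constructor

theorem isRelVeryAmplePn_prod (k : Type u) [Field k] (X : Scheme.{u}) [X.Over (Spec (CommRingCat.of k))]
    (N : ℕ) (ι : X ⟶ CohB1.ProjSpace N k) [IsClosedImmersion ι]
    (hι : ι ≫ CohB1.ProjSpace.toSpec N k = X ↘ Spec (CommRingCat.of k))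
    {S : Scheme.{u}} (q : S ⟶ Spec (CommRingCat.of k)) :
    RelAmple.IsRelVeryAmplePn (pullback.snd (X ↘ Spec (CommRingCat.of k)) q)
      ((Scheme.Modules.pullback (pullback.fst (X ↘ Spec (CommRingCat.of k)) q)).obj
        ((Scheme.Modules.pullback ι).obj (Twist.twistProjSpace N k 1))) := by
  obtain ⟨a, ha, hτ⟩ := exists_iso_compat N k
  obtain ⟨τ⟩ := hτ 1
  obtain ⟨b⟩ := PnBC.pullback_twistOver (n := N) q 1
  have hψ := SeesawX.PnFibre.isPullback_ψ (n := N) q
  have hw : (ι ≫ a.hom) ≫ CohB1.ProjSpaceOver.toBase N (Spec (CommRingCat.of k)) = X ↘ Spec (CommRingCat.of k) := by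
    rw [Category.assoc, show a.hom ≫ CohB1.ProjSpaceOver.toBase N (Spec (CommRingCat.of k)) =
      CohB1.ProjSpace.toSpec N k from ha, hι]
  let i := hψ.lift (pullback.fst (X ↘ Spec (CommRingCat.of k)) q ≫ ι ≫ a.hom)
    (pullback.snd (X ↘ Spec (CommRingCat.of k)) q) (by rw [Category.assoc, hw, pullback.condition])
  have hsq : IsPullback (pullback.fst (X ↘ Spec (CommRingCat.of k)) q) i (ι ≫ a.hom) (PnBC.ψ (n := N) q) := by
    refine IsPullback.of_bot ?_ (hψ.lift_fst _ _ _).symm hψ
    rw [hw, hψ.lift_snd]
    exact IsPullback.of_hasPullback _ _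
  haveI : IsClosedImmersion i := MorphismProperty.of_isPullback (P := @IsClosedImmersion) hsq inferInstance
  exact ⟨N, i, inferInstance, hψ.lift_snd _ _ _,
    ⟨(Scheme.Modules.pullback _).mapIso ((Scheme.Modules.pullback ι).mapIso τ.symm ≪≫
        (Scheme.Modules.pullbackComp ι a.hom).app _) ≪≫ (Scheme.Modules.pullbackComp _ _).app _ ≪≫
      (Scheme.Modules.pullbackCongr hsq.w).app _ ≪≫ ((Scheme.Modules.pullbackComp _ _).app _).symm ≪≫
      (Scheme.Modules.pullback i).mapIso b⟩⟩

end Groth.Agent.OpenSS
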